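import Mathlib
import Cfsg.Agent.Lib.Helper10.BR0
import Cfsg.Agent.S4706

/-!
# S0999 (Brauer–Reynolds), piece BR-F1: `final_of`
-/

set_option autoImplicit false

namespace Cfsg.Agent.Lib.Helper10.BR

open Cfsg

/-- BR-F1 -/
theorem final_of {G : Type*} [Group G] [Finite G] [IsSimpleGroup G] (hG : ¬ IsCyclic G)
    (p : ℕ) [Fact p.Prime] (hp5 : 5 ≤ p) (P : Sylow p G) (hP : Nat.card P = p)
    (hN : Nat.card (Subgroup.normalizer ((P : Subgroup G) : Set G)) = 2 * p)
    (H : Subgroup G) (hH : H.index = p)
    (hsl : ∀ (F : Type) [Field F] [Fintype F] (a : ℕ), Fintype.card F = 2 ^ a →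
      Nonempty (Matrix.SpecialLinearGroup (Fin 2) F ≃*
        Matrix.ProjectiveSpecialLinearGroup (Fin 2) F)) :
    ∃ (m : ℕ) (F : Type) (_ : Field F) (_ : Fintype F), Fintype.card F = 2 ^ m ∧
      p = 2 ^ m + 1 ∧ Nonempty (G ≃* Matrix.ProjectiveSpecialLinearGroup (Fin 2) F) := by
  classical
  have hp : p.Prime := Fact.out
  have hp2 : 2 < p := by omega
  let _ : Fintype (G ⧸ H) := Fintype.ofFinite _
  have hα : Fintype.card (G ⧸ H) = p := by
    rw [← Nat.card_eq_fintype_card]; exact hH
  -- the action is faithful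
  have hker : (MulAction.toPermHom G (G ⧸ H)).ker = ⊥ := by
    rcases (MonoidHom.normal_ker (MulAction.toPermHom G (G ⧸ H))).eq_bot_or_eq_top with h | h
    · exact h
    · exfalso
      have hHtop : H = ⊤ := by
        rw [eq_top_iff]
        intro g _
        have hg : g ∈ (MulAction.toPermHom G (G ⧸ H)).ker := by rw [h]; trivial
        rw [MonoidHom.mem_ker] at hg
        have h1 := congrArg (fun σ : Equiv.Perm (G ⧸ H) => σ ((1 : G) : G ⧸ H)) hg
        simp only [MulAction.toPermHom_apply, MulAction.toPerm_apply, Equiv.Perm.coe_one,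
          id_eq] at h1
        have h2 : ((g * 1 : G) : G ⧸ H) = ((1 : G) : G ⧸ H) := h1
        rw [mul_one, QuotientGroup.eq] at h2
        simpa using h2
      rw [hHtop, Subgroup.index_top] at hH
      exact hp.one_lt.ne hH
  have hinj : Function.Injective (MulAction.toPermHom G (G ⧸ H)) :=
    (MonoidHom.ker_eq_bot_iff _).1 hker
  obtain ⟨e⟩ : Nonempty (G ≃* (MulAction.toPermHom G (G ⧸ H)).range) :=
    ⟨MonoidHom.ofInjective hinj⟩
  let P' : Sylow p (MulAction.toPermHom G (G ⧸ H)).range :=
    P.comapOfInjective e.symm.toMonoidHom e.symm.injective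
      (by rw [MonoidHom.range_eq_top.2 e.symm.surjective]; exact le_top)
  have hP' : (P' : Subgroup (MulAction.toPermHom G (G ⧸ H)).range) =
      Subgroup.comap e.symm.toMonoidHom (P : Subgroup G) :=
    Sylow.coe_comapOfInjective P _ _ _
  have hN' : Nat.card (Subgroup.normalizer
      ((P' : Subgroup (MulAction.toPermHom G (G ⧸ H)).range) :
        Set (MulAction.toPermHom G (G ⧸ H)).range)) = 2 * p := by
    rw [hP', ← Subgroup.comap_normalizer_eq_of_surjective _ e.symm.surjective]
    have h1 : Subgroup.comap e.symm.toMonoidHom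
        (Subgroup.normalizer ((P : Subgroup G) : Set G)) =
        Subgroup.map e.toMonoidHom (Subgroup.normalizer ((P : Subgroup G) : Set G)) := by
      have := Subgroup.comap_equiv_eq_map_symm e.symm
        (Subgroup.normalizer ((P : Subgroup G) : Set G))
      simpa using this
    rw [h1, Subgroup.card_map_of_injective (f := e.toMonoidHom) e.injective, hN]
  rcases Cfsg.Agent.S4706.result hp2 hα (MulAction.toPermHom G (G ⧸ H)).range P' hN' with
    hnorm | ⟨a, F, hF1, hF2, hpa, hcF, ⟨e2⟩⟩
  · exfalso
    have hPn : (P : Subgroup G).Normal := by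
      have h1 := hnorm.map e.symm.toMonoidHom e.symm.surjective
      rw [hP', Subgroup.map_comap_eq_self_of_surjective e.symm.surjective] at h1
      exact h1
    rcases hPn.eq_bot_or_eq_top with h | h
    · have : Nat.card (P : Subgroup G) = 1 := by rw [h]; exact Subgroup.card_bot
      rw [hP] at this
      exact hp.one_lt.ne' this
    · have : Nat.card (P : Subgroup G) = Nat.card G := by rw [h]; exact Subgroup.card_top
      rw [hP] at this
      exact hG (isCyclic_of_prime_card this.symm)
  · obtain ⟨e3⟩ := @hsl F hF1 hF2 a hcF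
    exact ⟨a, F, hF1, hF2, hcF, hpa, ⟨e.trans (e2.trans e3)⟩⟩

end Cfsg.Agent.Lib.Helper10.BR
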