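import Mathlib
import Cfsg.Agent.Lib.Helper25.StDefs

/-!
# Steinberg project, piece P1 "CoxR": minimal coset representatives (one-sided)
-/

set_option autoImplicit false

namespace Cfsg.Agent.Lib.Helper25

open Cfsg Cfsg.Agent.Lib.Helper8

variable {W : Type*} [Group W] {S J : Set W}

theorem coxr_len_inv (h : InvGen S) (w : W) : len S w⁻¹ = len S w := by
  have key : ∀ w : W, len S w⁻¹ ≤ len S w := by
    intro w
    obtain ⟨L, hL, hprod, hlen⟩ := h.exists_reduced w
    have h1 := len_le (S := S) (L := L.reverse) (fun x hx => hL x (List.mem_reverse.1 hx))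
    rw [prod_reverse_of_sq h.sq L hL, hprod, List.length_reverse, hlen] at h1
    exact h1
  apply le_antisymm (key w)
  have := key w⁻¹
  rwa [inv_inv] at this

theorem coxr_len_mul_le (h : InvGen S) (a b : W) : len S (a * b) ≤ len S a + len S b := by
  obtain ⟨A, hA, hAp, hAl⟩ := h.exists_reduced a
  obtain ⟨B, hB, hBp, hBl⟩ := h.exists_reduced b
  have h1 := len_le (S := S) (L := A ++ B) (by
    intro x hx
    rcases List.mem_append.1 hx with hx | hx
    · exact hA x hx
    · exact hB x hx)
  rw [List.prod_append, hAp, hBp, List.length_append, hAl, hBl] at h1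
  exact h1

theorem coxr_len_mul_right_ne (h : ExchGen S) {s : W} (hs : s ∈ S) (w : W) :
    len S (w * s) ≠ len S w := by
  intro heq
  apply h.len_mul_ne hs w⁻¹
  have hsinv : s⁻¹ = s := inv_eq_of_mul_eq_one_right (h.sq s hs)
  have e : s * w⁻¹ = (w * s)⁻¹ := by rw [mul_inv_rev, hsinv]
  rw [e, coxr_len_inv h.toInvGen, coxr_len_inv h.toInvGen, heq]

/-- every coset of `closure J` contains an element of minimal length -/
theorem coxr_exists_cmin (S J : Set W) (w : W) : ∃ v ∈ Subgroup.closure J,
    ∀ v' ∈ Subgroup.closure J, len S (w * v) ≤ len S (w * v * v') := by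
  classical
  have hne : ∃ k, ∃ v ∈ Subgroup.closure J, len S (w * v) = k :=
    ⟨_, 1, Subgroup.one_mem _, rfl⟩
  obtain ⟨v, hv, hk⟩ := Nat.find_spec hne
  refine ⟨v, hv, fun v' hv' => ?_⟩
  rw [hk]
  have h1 := Nat.find_min' hne ⟨v * v', Subgroup.mul_mem _ hv hv', rfl⟩
  rwa [← mul_assoc] at h1

/-- additivity of the length for coset-minimal elements -/
theorem coxr_cmin_add (h : ExchGen S) (hJ : J ⊆ S) {w1 : W}
    (hmin : ∀ v ∈ Subgroup.closure J, len S w1 ≤ len S (w1 * v)) {v : W}
    (hv : v ∈ Subgroup.closure J) : len S (w1 * v) = len S w1 + len S v := by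
  obtain ⟨A, hA, hAp, hAl⟩ := h.toInvGen.exists_reduced w1
  obtain ⟨C, hC, hCp, hCl⟩ := h.exists_reduced_word_in hJ hv
  have hAC : ∀ x ∈ A ++ C, x ∈ S := by
    intro x hx
    rcases List.mem_append.1 hx with hx | hx
    · exact hA x hx
    · exact hJ (hC x hx)
  obtain ⟨L', hsub, hprod, hlen⟩ := h.exists_reduced_sublist (A ++ C) hAC
  rw [List.prod_append, hAp, hCp] at hprod hlen
  obtain ⟨A', C', rfl, hA', hC'⟩ := List.sublist_append_iff.1 hsub
  have hC'mem : C'.prod ∈ Subgroup.closure J :=
    prod_mem_closure (fun x hx => hC x (hC'.subset hx))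
  rw [List.prod_append] at hprod
  have hA'prod : A'.prod = w1 * (v * C'.prod⁻¹) := by
    rw [← mul_assoc, ← hprod]
    group
  have h1 : len S w1 ≤ len S A'.prod := by
    rw [hA'prod]
    exact hmin _ (Subgroup.mul_mem _ hv (Subgroup.inv_mem _ hC'mem))
  have h2 : len S A'.prod ≤ A'.length := len_le (fun x hx => hA x (hA'.subset hx))
  have h3 : A'.length ≤ A.length := hA'.length_le
  have hAeq : A' = A := hA'.eq_of_length (by omega)
  rw [hAeq, hAp] at hprod
  have hC'prod : C'.prod = v := mul_left_cancel hprod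
  have h4 : len S v ≤ C'.length := by
    rw [← hC'prod]
    exact len_le (fun x hx => hJ (hC x (hC'.subset hx)))
  have h5 : C'.length ≤ C.length := hC'.length_le
  rw [List.length_append, hAeq] at hlen
  omega

/-- a right-minimal element is minimal in its coset -/
theorem coxr_rmin_cmin (h : ExchGen S) (hJ : J ⊆ S) {w : W} (hw : RMin S J w) :
    ∀ v ∈ Subgroup.closure J, len S w ≤ len S (w * v) := by
  obtain ⟨v0, hv0, hmin⟩ := coxr_exists_cmin S J w
  have hadd := coxr_cmin_add h hJ hmin (Subgroup.inv_mem _ hv0)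
  rw [mul_inv_cancel_right] at hadd
  by_cases hv01 : v0⁻¹ = 1
  · have hv1 : v0 = 1 := inv_eq_one.1 hv01
    subst hv1
    simpa using hmin
  · exfalso
    obtain ⟨C, hC, hCp, hCl⟩ := h.exists_reduced_word_in hJ (Subgroup.inv_mem _ hv0)
    rcases List.eq_nil_or_concat C with rfl | ⟨C', s, hCeq⟩
    · exact hv01 (by simpa using hCp.symm)
    · rw [List.concat_eq_append] at hCeq
      subst hCeq
      have hs : s ∈ J := hC s (by simp)
      have hC'J : ∀ x ∈ C', x ∈ J := fun x hx => hC x (by simp [hx])
      rw [List.prod_append, List.prod_singleton] at hCp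
      rw [List.length_append, List.length_singleton] at hCl
      have hs2 : s * s = 1 := h.sq s (hJ hs)
      have e : w * s = (w * v0) * C'.prod := by
        have h0 : w = (w * v0) * (C'.prod * s) := by
          rw [hCp]
          group
        calc w * s = (w * v0) * (C'.prod * s) * s := by rw [← h0]
          _ = (w * v0) * C'.prod * (s * s) := by group
          _ = (w * v0) * C'.prod := by rw [hs2, mul_one]
      have h1 : len S (w * s) ≤ len S (w * v0) + len S C'.prod := by
        rw [e]
        exact coxr_len_mul_le h.toInvGen _ _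
      have h2 : len S C'.prod ≤ C'.length := len_le (fun x hx => hJ (hC'J x hx))
      have h3 := hw s hs
      omega

theorem rmin_len_mul (h : ExchGen S) (hJ : J ⊆ S) {w v : W} (hw : RMin S J w)
    (hv : v ∈ Subgroup.closure J) : len S (w * v) = len S w + len S v :=
  coxr_cmin_add h hJ (coxr_rmin_cmin h hJ hw) hv

theorem exists_rmin (h : ExchGen S) (hJ : J ⊆ S) (w : W) :
    ∃ v ∈ Subgroup.closure J, RMin S J (w * v) := by
  obtain ⟨v, hv, hmin⟩ := coxr_exists_cmin S J w
  refine ⟨v, hv, fun s hs => ?_⟩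
  have h1 := hmin s (Subgroup.subset_closure hs)
  have h2 := coxr_len_mul_right_ne h (hJ hs) (w * v)
  omega

theorem rmin_unique (h : ExchGen S) (hJ : J ⊆ S) {w v : W} (hw : RMin S J w)
    (hv : v ∈ Subgroup.closure J) (hwv : RMin S J (w * v)) : v = 1 := by
  have h1 := rmin_len_mul h hJ hw hv
  have h2 := rmin_len_mul h hJ hwv (Subgroup.inv_mem _ hv)
  rw [mul_inv_cancel_right, coxr_len_inv h.toInvGen] at h2
  exact h.toInvGen.len_eq_zero (by omega)

end Cfsg.Agent.Lib.Helper25
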