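import Cfsg.Agent.Lib.Helper4.TPDefs

/-!
Project TP (S4033, helper4), piece NCR: if `G` has a noncentral `r`-element (`r ≠ p`), then the
centralizer of every noncentral `p`-regular element contains a noncentral `r`-element.
-/

set_option autoImplicit false

namespace Cfsg.Agent.Lib.Helper4.TP

universe u

theorem ncr : NCRStmt.{u} := by
  intro G _ _ p m r hp hH hr hrp z hz hzr g hg
  obtain ⟨hm1, -, hidx⟩ := hH
  obtain ⟨k, hk⟩ := hzr
  have : Fact r.Prime := ⟨hr⟩
  by_contra hcon
  push Not at hcon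
  -- z is NC
  have hzNC : NC p z := by
    refine ⟨?_, hz⟩
    show (orderOf z).Coprime p
    rw [hk]
    exact Nat.Coprime.pow_left k ((Nat.coprime_primes hr hp).mpr hrp)
  have hiz := hidx z hzNC
  have hig := hidx g hg
  have hm0 : 0 < m := by omega
  have hcard : Nat.card (Cen g) = Nat.card (Cen z) := by
    have h1 := Subgroup.card_mul_index (Cen g)
    have h2 := Subgroup.card_mul_index (Cen z)
    rw [hig] at h1
    rw [hiz, ← h1] at h2
    exact (Nat.eq_of_mul_eq_mul_right hm0 h2).symm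
  have hC0 : Nat.card (Cen g) ≠ 0 := Nat.card_pos.ne'
  -- Sylow r-subgroup of Cen g
  obtain ⟨R⟩ : Nonempty (Sylow r ↥(Cen g)) := inferInstance
  have hRcard : Nat.card R = r ^ (Nat.card (Cen g)).factorization r := R.card_eq_multiplicity
  obtain ⟨R', hR'⟩ : ∃ R' : Subgroup G, R' = (R : Subgroup ↥(Cen g)).map (Cen g).subtype :=
    ⟨_, rfl⟩
  have hR'card : Nat.card R' = Nat.card R := by
    rw [hR']
    exact Subgroup.card_map_of_injective (Subgroup.subtype_injective _)
  have hR'p : IsPGroup r R' := by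
    rw [hR']
    exact R.isPGroup'.map _
  have hR'cen : R' ≤ Subgroup.center G := by
    intro x hx
    rw [hR'] at hx
    obtain ⟨y, hy, rfl⟩ := hx
    obtain ⟨j, hj⟩ := R.isPGroup' ⟨y, hy⟩
    have h1 : ((y : ↥(Cen g)) : G) ^ r ^ j = 1 := by
      have h2 := congrArg (fun w : ↥(R : Subgroup ↥(Cen g)) => ((w : ↥(Cen g)) : G)) hj
      simpa using h2
    obtain ⟨j', -, hj'⟩ := (Nat.dvd_prime_pow hr).mp (orderOf_dvd_of_pow_eq_one h1)
    by_contra hnc
    exact hcon _ y.2 hnc j' hj'
  have hR'n : R'.Normal := by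
    refine ⟨fun n hn x => ?_⟩
    have h1 := Subgroup.mem_center_iff.mp (hR'cen hn) x
    rw [h1, mul_inv_cancel_right]
    exact hn
  have hzp : IsPGroup r (Subgroup.zpowers z) := by
    apply IsPGroup.of_card (n := k)
    rw [Nat.card_zpowers, hk]
  have hE : IsPGroup r ↥(R' ⊔ Subgroup.zpowers z) := IsPGroup.to_sup_of_normal_left hR'p hzp
  have hEle : R' ⊔ Subgroup.zpowers z ≤ Cen z := by
    apply sup_le
    · exact hR'cen.trans (Subgroup.center_le_centralizer _)
    · rw [Subgroup.zpowers_le]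
      rw [Subgroup.mem_centralizer_iff]
      intro h hh
      rw [Set.mem_singleton_iff] at hh
      rw [hh]
  obtain ⟨j, hj⟩ := hE.exists_card_eq
  have hdvd : r ^ j ∣ Nat.card (Cen g) := by
    rw [hcard, ← hj]
    exact Subgroup.card_dvd_of_le hEle
  have hjle : j ≤ (Nat.card (Cen g)).factorization r :=
    (hr.pow_dvd_iff_le_factorization hC0).mp hdvd
  have hle : Nat.card ↥(R' ⊔ Subgroup.zpowers z) ≤ Nat.card R' := by
    rw [hj, hR'card, hRcard]
    exact Nat.pow_le_pow_right hr.pos hjle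
  have heq : R' = R' ⊔ Subgroup.zpowers z := Subgroup.eq_of_le_of_card_ge le_sup_left hle
  have hzR' : z ∈ R' := by
    rw [heq]
    exact Subgroup.mem_sup_right (Subgroup.mem_zpowers z)
  exact hz (hR'cen hzR')

end Cfsg.Agent.Lib.Helper4.TP
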