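import Cfsg.Agent.Lib.Helper26.DcDefs

set_option autoImplicit false

/-! Project ORD (S1068, helper26), piece DC-SUM: a subgroup that is a disjoint union of double
cosets has order the sum of their cardinalities. -/

namespace Cfsg.Agent.Lib.Helper26.DcAbs

variable {Γ : Type*} [Group Γ]

/-- piece DC-SUM: a subgroup that is a disjoint union of double cosets -/
theorem card_eq_sum_dc [Finite Γ] (G1 B : Subgroup Γ) (hB : B ≤ G1) {ι : Type*} [Fintype ι]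
    (x : ι → Γ) (hx : ∀ i, x i ∈ G1) (hcov : ∀ g ∈ G1, ∃ i, g ∈ dc B (x i))
    (hdis : ∀ i j, ∀ g, g ∈ dc B (x i) → g ∈ dc B (x j) → i = j) :
    Nat.card G1 = ∑ i, Nat.card (dc B (x i)) := by
  classical
  have hsub : ∀ i, ∀ g ∈ dc B (x i), g ∈ G1 := by
    intro i g hg
    obtain ⟨b, hb, b', hb', rfl⟩ := mem_dc.mp hg
    exact G1.mul_mem (G1.mul_mem (hB hb) (hx i)) (hB hb')
  choose f hf using fun g : ↥G1 => hcov g.1 g.2
  have haux : ∀ (i j : ι) (g : Γ) (h : g ∈ dc B (x j)) (hg : g ∈ dc B (x i)), j = i →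
      (⟨j, ⟨g, h⟩⟩ : Σ i, ↥(dc B (x i))) = ⟨i, ⟨g, hg⟩⟩ := by
    intro i j g h hg hj
    subst hj
    rfl
  let e : ↥G1 ≃ (Σ i, ↥(dc B (x i))) :=
    { toFun := fun g => ⟨f g, ⟨g.1, hf g⟩⟩
      invFun := fun p => ⟨p.2.1, hsub p.1 p.2.1 p.2.2⟩
      left_inv := fun g => rfl
      right_inv := by
        rintro ⟨i, ⟨g, hg⟩⟩
        exact haux i _ g _ hg (hdis _ _ g (hf ⟨g, hsub i g hg⟩) hg) }
  rw [Nat.card_congr e, Nat.card_sigma]

end Cfsg.Agent.Lib.Helper26.DcAbs
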