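import Mathlib
import Cfsg.Agent.Lib.Helper4.FCDefs

/-! Project FC (S4146, helper4): piece `S33B`. `D = (P R) × A` with `A` central: a noncentral
`p`-element `w` (`p ≠ q`) forces `p = r`, and `cs w` divides `|P R| = q^x p^y`. -/

set_option autoImplicit false

namespace Cfsg.Agent.Lib.Helper4.FC

universe u

open scoped Pointwise

theorem fc_s33b : S33BStmt.{u} := by
  intro D _ _ q p r P R A hq hp hr hpq hrq hA hcard hnorm hinf hsup w hw hwnc
  have hfq : Fact q.Prime := ⟨hq⟩
  have hfr : Fact r.Prime := ⟨hr⟩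
  obtain ⟨K, hK⟩ : ∃ K : Subgroup D, K = (P : Subgroup D) ⊔ (R : Subgroup D) := ⟨_, rfl⟩
  rw [← hK] at hcard hnorm hinf hsup
  have hPc : Nat.card P = q ^ (Nat.card D).factorization q := Sylow.card_eq_multiplicity P
  have hRc : Nat.card R = r ^ (Nat.card D).factorization r := Sylow.card_eq_multiplicity R
  have hmul : (K : Set D) * (A : Set D) = Set.univ := by
    rw [← Subgroup.normal_mul, hsup]
    exact Subgroup.coe_top
  have hcomp : Subgroup.IsComplement' K A :=
    Subgroup.isComplement'_of_disjoint_and_mul_eq_univ (disjoint_iff.mpr hinf) hmul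
  have hAidx : A.index = Nat.card K := hcomp.index_eq_card
  have hAcen : A ≤ Cen w := by
    intro a ha
    rw [Subgroup.mem_centralizer_iff]
    intro h hh
    rw [Set.mem_singleton_iff.mp hh]
    exact (Subgroup.mem_center_iff.mp (hA ha)) w
  have hdvd : cs w ∣ Nat.card K := by
    rw [← hAidx]
    exact Subgroup.index_dvd_of_le hAcen
  have hpr : p = r := by
    by_contra hne
    apply hwnc
    obtain ⟨j, hj⟩ := hw
    have hcop : (Nat.card K).Coprime (orderOf w) := by
      rw [hcard, hPc, hRc, hj]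
      apply Nat.Coprime.mul_left
      · exact Nat.Coprime.pow _ _ ((Nat.coprime_primes hq hp).mpr (Ne.symm hpq))
      · exact Nat.Coprime.pow _ _ ((Nat.coprime_primes hr hp).mpr (Ne.symm hne))
    obtain ⟨t, ht⟩ := exists_pow_eq_self_of_coprime hcop
    have hwmem : w ∈ (K : Set D) * (A : Set D) := by
      rw [hmul]
      exact Set.mem_univ w
    obtain ⟨k, hk, a, ha, hka⟩ := Set.mem_mul.mp hwmem
    have hacen := Subgroup.mem_center_iff.mp (hA ha)
    have hkpow : k ^ Nat.card K = 1 := by
      have h3 : (⟨k, hk⟩ : K) ^ Nat.card K = 1 := pow_card_eq_one'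
      exact congrArg Subtype.val h3
    have hwpow : w ^ Nat.card K = a ^ Nat.card K := by
      rw [← hka, (show Commute k a from (hacen k)).mul_pow, hkpow, one_mul]
    rw [← ht, hwpow]
    exact hA (A.pow_mem (A.pow_mem ha _) _)
  refine ⟨(Nat.card D).factorization q, (Nat.card D).factorization r, ?_⟩
  rw [hpr, ← hPc, ← hRc, ← hcard]
  exact hdvd

end Cfsg.Agent.Lib.Helper4.FC
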