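import Mathlib
import Cfsg.Agent.Lib.Helper58.JUDefs

/-!
Project JU (S2950, helper58), piece BLK: the block lemma.  For `K₁, K₂, K₃` in the
`N_G(J(T))`-orbit of `K` with `K₂ ≤ N(W_{K₁})`: `K₃ ≤ N(W_{K₁}) ↔ K₃ ≤ N(W_{K₂})`.
-/

set_option autoImplicit false

namespace Cfsg.Agent.Lib.Helper75.JU

open Cfsg.Agent.Lib.Helper58.JU Cfsg.Agent.Lib.Helper72.JL Cfsg.Agent.Lib.Helper72.SC
  Cfsg.Agent.Lib.Helper72.JM Cfsg.Agent.Lib.Helper72.JP Cfsg.Agent.Lib.Helper78.JN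
  Cfsg.Agent.Lib.Helper78.Jc

open scoped commutatorElement

universe u

theorem blk (hOrb : OrbStmt.{u}) (hCmg : CmgStmt.{u}) : BlkStmt.{u} := by
  intro G _ _ M T K hctx K₁ hK₁ K₂ hK₂ h21 K₃ hK₃
  have key : ∀ Ka ∈ Orb T K, ∀ Kb ∈ Orb T K, ∀ Kc ∈ Orb T K,
      Kb ≤ Subgroup.normalizer (Cfsg.wOf Ka : Set G) →
      Kc ≤ Subgroup.normalizer (Cfsg.wOf Ka : Set G) →
      Kc ≤ Subgroup.normalizer (Cfsg.wOf Kb : Set G) := by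
    intro Ka hKa Kb hKb Kc hKc hbN hcN
    obtain ⟨hJa, hMa, -, hJNa, hKaN, h2La⟩ := hOrb G M T K hctx Ka hKa
    obtain ⟨hJb, -⟩ := hOrb G M T K hctx Kb hKb
    obtain ⟨hJc, -⟩ := hOrb G M T K hctx Kc hKc
    have hNM : ¬ Subgroup.normalizer (Cfsg.wOf Ka : Set G) ≤ M := fun h => hMa (hKaN.trans h)
    obtain ⟨T₀, hT₀2, hT₀ne, hL, hJeq⟩ := hctx.hloc _ h2La hNM hJNa
    have conv : ∀ K' : Subgroup G, Cfsg.IsJComponent T K' → Cfsg.IsJComponent T₀ K' := by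
      intro K' h
      unfold Cfsg.IsJComponent at h ⊢
      rw [hJeq]
      exact h
    exact hCmg G hctx.hzn T₀ hT₀2 hT₀ne _ hL Kb Kc (conv Kb hJb) (conv Kc hJc) hbN hcN
  have h11 : K₁ ≤ Subgroup.normalizer (Cfsg.wOf K₁ : Set G) :=
    (hOrb G M T K hctx K₁ hK₁).2.2.2.2.1
  constructor
  · intro h31
    exact key K₁ hK₁ K₂ hK₂ K₃ hK₃ h21 h31
  · intro h32
    have h12 : K₁ ≤ Subgroup.normalizer (Cfsg.wOf K₂ : Set G) :=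
      key K₁ hK₁ K₂ hK₂ K₁ hK₁ h21 h11
    exact key K₂ hK₂ K₁ hK₁ K₃ hK₃ h12 h32

end Cfsg.Agent.Lib.Helper75.JU
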