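import Mathlib
import Cfsg.Agent.Lib.Helper45.NRankDefs
import Cfsg.Agent.Lib.Helper63.NRankNEA1
import Cfsg.Agent.Lib.Helper81.SpSyl

/-!
# S2249, piece GLMOD: a model of the Sylow `2`-subgroup of `GL_{mb}(F)` built from a `b`-block

`HasBlk F b c m`: some finite `2`-group `T` with a normal elementary abelian subgroup of order
`2 ^ m` and order divisible by `2 ^ (m * c + v₂(m!))` acts faithfully on `l → (Fin b → F)`
(`l` of cardinality `m`).  The predicate propagates from `m = 1` to every `m ≥ 1` through wreath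
products with a group of order two (for powers of two) and direct products.
-/

set_option autoImplicit false

namespace Cfsg.Agent.Lib.Helper75.NRank

open Cfsg.Agent.Lib.Helper45.NRank Cfsg.Agent.Lib.Helper74.Wreath Cfsg.Agent.Lib.Helper81.SpSyl

open RegularWreathProduct

universe u

/-- Transport of a faithful representation along a linear equivalence. -/
theorem transportRep {F : Type*} [Field F] {T : Type*} [Group T] {X Y : Type*}
    [AddCommGroup X] [Module F X] [AddCommGroup Y] [Module F Y] (E : Y ≃ₗ[F] X)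
    (σ : Representation F T X) (hinj : Function.Injective σ) :
    ∃ ρ : Representation F T Y, Function.Injective ρ := by
  refine ⟨{ toFun := fun g => E.symm.toLinearMap ∘ₗ σ g ∘ₗ E.toLinearMap
            map_one' := ?_
            map_mul' := ?_ }, ?_⟩
  · refine LinearMap.ext fun u => ?_
    simp
  · intro a b
    refine LinearMap.ext fun u => ?_
    simp
  · intro a b hab
    apply hinj
    refine LinearMap.ext fun x => ?_
    have h1 := congrArg (fun f : Module.End F Y => E (f (E.symm x))) hab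
    simpa using h1

/-- Some finite `2`-group with a normal elementary abelian subgroup of order `2 ^ m` and order
divisible by `2 ^ (m * c + v₂(m!))` acts faithfully on `l → (Fin b → F)`, `l` of cardinality
`m`. -/
def HasBlk (F : Type u) [Field F] (b c m : ℕ) : Prop :=
  ∃ (l : Type) (_ : Fintype l) (_ : Nonempty l) (T : Type u) (_ : Group T) (_ : Finite T)
    (ρ : Representation F T (l → (Fin b → F))),
    Fintype.card l = m ∧ IsPGroup 2 T ∧
      2 ^ (m * c + padicValNat 2 m.factorial) ∣ Nat.card T ∧ NEA T m ∧ Function.Injective ρ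

theorem HasBlk.step {F : Type u} [Field F] {b c m : ℕ} (hb : 1 ≤ b) (h : HasBlk F b c m)
    (hν : padicValNat 2 (2 * m).factorial ≤ 2 * padicValNat 2 m.factorial + 1) :
    HasBlk F b c (2 * m) := by
  have hfact : Fact (Nat.Prime 2) := ⟨Nat.prime_two⟩
  obtain ⟨l, _, _, T, _, _, ρ, hcard, hT, hdvd, hnea, hinj⟩ := h
  have hneb : Nonempty (Fin b) := ⟨⟨0, hb⟩⟩
  have hntQ : Nontrivial (Multiplicative (ZMod 2)) := by
    have : Fact (1 < 2) := ⟨by norm_num⟩
    infer_instance
  have hσinj := wrRep_injective (Q := Multiplicative (ZMod 2)) ρ hinj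
  obtain ⟨ρ', hinj'⟩ := transportRep
    (LinearEquiv.curry F (Fin b → F) (Multiplicative (ZMod 2)) l) (wrRep ρ) hσinj
  have hcQ : Nat.card (Multiplicative (ZMod 2)) = 2 := by
    rw [Nat.card_eq_fintype_card, Fintype.card_multiplicative, ZMod.card]
  have hc : Nat.card (T ≀ᵣ Multiplicative (ZMod 2)) = Nat.card T ^ 2 * 2 := by
    rw [RegularWreathProduct.card, hcQ]
  refine ⟨Multiplicative (ZMod 2) × l, inferInstance, inferInstance,
    T ≀ᵣ Multiplicative (ZMod 2), inferInstance, inferInstance, ρ', ?_, ?_, ?_, ?_, hinj'⟩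
  · rw [Fintype.card_prod, Fintype.card_multiplicative, ZMod.card, hcard]
  · obtain ⟨a, ha⟩ := IsPGroup.iff_card.1 hT
    have hc' : Nat.card (T ≀ᵣ Multiplicative (ZMod 2)) = 2 ^ (a * 2 + 1) := by
      rw [hc, ha, ← pow_mul, pow_succ]
    exact IsPGroup.of_card hc'
  · rw [hc]
    have h1 : (2 ^ (m * c + padicValNat 2 m.factorial)) ^ 2 * 2 ∣ Nat.card T ^ 2 * 2 :=
      mul_dvd_mul (pow_dvd_pow_of_dvd hdvd 2) (dvd_refl 2)
    refine dvd_trans ?_ h1
    rw [← pow_mul, ← pow_succ]
    apply pow_dvd_pow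
    have h2 : 2 * m * c = m * c * 2 := by ring
    rw [h2]
    omega
  · exact Cfsg.Agent.Lib.Helper63.NRank.NEA.wreath hnea

theorem HasBlk.prod {F : Type u} [Field F] {b c a₁ a₂ : ℕ} (h₁ : HasBlk F b c a₁)
    (h₂ : HasBlk F b c a₂)
    (hν : padicValNat 2 (a₁ + a₂).factorial ≤
      padicValNat 2 a₁.factorial + padicValNat 2 a₂.factorial) :
    HasBlk F b c (a₁ + a₂) := by
  have hfact : Fact (Nat.Prime 2) := ⟨Nat.prime_two⟩
  obtain ⟨l₁, _, _, T₁, _, _, ρ₁, hcard₁, hT₁, hdvd₁, hnea₁, hinj₁⟩ := h₁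
  obtain ⟨l₂, _, _, T₂, _, _, ρ₂, hcard₂, hT₂, hdvd₂, hnea₂, hinj₂⟩ := h₂
  let σ : Representation F (T₁ × T₂) ((l₁ → (Fin b → F)) × (l₂ → (Fin b → F))) :=
    { toFun := fun g => LinearMap.prodMap (ρ₁ g.1) (ρ₂ g.2)
      map_one' := by
        show LinearMap.prodMap (ρ₁ 1) (ρ₂ 1) = 1
        rw [map_one, map_one]
        exact LinearMap.prodMap_one
      map_mul' := by
        intro x y
        show LinearMap.prodMap (ρ₁ (x.1 * y.1)) (ρ₂ (x.2 * y.2)) = _
        rw [map_mul, map_mul]
        refine LinearMap.ext fun v => ?_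
        simp [Module.End.mul_apply] }
  have hσinj : Function.Injective σ := by
    intro x y hxy
    refine Prod.ext (hinj₁ ?_) (hinj₂ ?_)
    · refine LinearMap.ext fun w => ?_
      exact congrArg (fun f : Module.End F ((l₁ → (Fin b → F)) × (l₂ → (Fin b → F))) =>
        (f (w, 0)).1) hxy
    · refine LinearMap.ext fun w => ?_
      exact congrArg (fun f : Module.End F ((l₁ → (Fin b → F)) × (l₂ → (Fin b → F))) =>
        (f (0, w)).2) hxy
  obtain ⟨ρ', hinj'⟩ := transportRep
    (LinearEquiv.sumArrowLequivProdArrow l₁ l₂ F (Fin b → F)) σ hσinj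
  obtain ⟨j₁, hj₁⟩ := IsPGroup.iff_card.1 hT₁
  obtain ⟨j₂, hj₂⟩ := IsPGroup.iff_card.1 hT₂
  refine ⟨l₁ ⊕ l₂, inferInstance, inferInstance, T₁ × T₂, inferInstance, inferInstance, ρ',
    ?_, ?_, ?_, Cfsg.Agent.Lib.Helper63.NRank.NEA.prod hnea₁ hnea₂, hinj'⟩
  · rw [Fintype.card_sum, hcard₁, hcard₂]
  · have hc : Nat.card (T₁ × T₂) = 2 ^ (j₁ + j₂) := by
      rw [Nat.card_prod, hj₁, hj₂, pow_add]
    exact IsPGroup.of_card hc
  · rw [Nat.card_prod]
    refine dvd_trans ?_ (mul_dvd_mul hdvd₁ hdvd₂)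
    rw [← pow_add]
    apply pow_dvd_pow
    have h2 : (a₁ + a₂) * c = a₁ * c + a₂ * c := by ring
    rw [h2]
    omega

/-- The base case gives every degree. -/
theorem hasBlk_all {F : Type u} [Field F] {b c : ℕ} (hb : 1 ≤ b) (h1 : HasBlk F b c 1) :
    ∀ n, 1 ≤ n → HasBlk F b c n := by
  intro n
  induction n using Nat.strong_induction_on with
  | _ n ih =>
    intro hn
    rcases Nat.lt_or_ge n 2 with h2 | h2
    · have h3 : n = 1 := by omega
      rw [h3]
      exact h1
    · obtain ⟨k, hk⟩ : ∃ k, k = Nat.log 2 n := ⟨_, rfl⟩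
      have hlo : 2 ^ k ≤ n := by
        rw [hk]
        exact Nat.pow_log_le_self 2 (by omega)
      have hhi : n < 2 ^ (k + 1) := by
        rw [hk]
        exact Nat.lt_pow_succ_log_self (by norm_num) n
      have hk1 : 1 ≤ k := by
        by_contra hcon
        have h3 : k = 0 := by omega
        rw [h3] at hhi
        norm_num at hhi
        omega
      rcases Nat.eq_or_lt_of_le hlo with heq | hlt
      · obtain ⟨j, rfl⟩ : ∃ j, k = j + 1 := ⟨k - 1, by omega⟩
        have hm : 2 * 2 ^ j = n := by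
          rw [← heq, pow_succ]
          ring
        have hj1 : 1 ≤ 2 ^ j := Nat.one_le_two_pow
        rw [← hm]
        apply (ih (2 ^ j) (by omega) hj1).step hb
        rw [mul_comm 2, ← pow_succ, val_two_pow_factorial, val_two_pow_factorial, pow_succ]
        omega
      · obtain ⟨r, hr⟩ : ∃ r, n = 2 ^ k + r := ⟨n - 2 ^ k, by omega⟩
        have hr0 : 0 < r := by omega
        have hrk : r < 2 ^ k := by
          rw [pow_succ] at hhi
          omega
        have hk0 : 1 ≤ 2 ^ k := Nat.one_le_two_pow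
        rw [hr]
        apply (ih (2 ^ k) (by omega) hk0).prod (ih r (by omega) (by omega))
        rw [val_factorial_add_two_pow k r hrk]

/-- The base case. -/
theorem hasBlk_one {F : Type u} [Field F] (b c : ℕ)
    (hbase : ∃ (T : Type u) (_ : Group T) (_ : Finite T) (ρ : Representation F T (Fin b → F)),
      IsPGroup 2 T ∧ 2 ^ c ∣ Nat.card T ∧ Nontrivial T ∧ Function.Injective ρ) :
    HasBlk F b c 1 := by
  have hfact : Fact (Nat.Prime 2) := ⟨Nat.prime_two⟩
  obtain ⟨T, _, _, ρ, hT, hdvd, hnt, hinj⟩ := hbase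
  obtain ⟨ρ', hinj'⟩ := transportRep (LinearEquiv.funUnique Unit F (Fin b → F)) ρ hinj
  refine ⟨Unit, inferInstance, inferInstance, T, inferInstance, inferInstance, ρ', ?_, hT, ?_,
    Cfsg.Agent.Lib.Helper63.NRank.NEA.base hT hnt, hinj'⟩
  · exact Fintype.card_unit
  · rw [Nat.factorial_one, padicValNat_one_right, add_zero, one_mul]
    exact hdvd

/-- Conversion to an embedding into the general linear group. -/
theorem HasBlk.exists_hom {F : Type u} [Field F] {b c m : ℕ} (h : HasBlk F b c m) (N : ℕ)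
    (hN : N = m * b) :
    ∃ (T : Type u) (_ : Group T) (_ : Finite T) (φ : T →* GL (Fin N) F),
      IsPGroup 2 T ∧ 2 ^ (m * c + padicValNat 2 m.factorial) ∣ Nat.card T ∧ NEA T m ∧
      Function.Injective φ := by
  classical
  obtain ⟨l, _, _, T, _, _, ρ, hcard, hT, hdvd, hnea, hinj⟩ := h
  have hc : Fintype.card (Fin N) = Fintype.card (l × Fin b) := by
    rw [Fintype.card_fin, Fintype.card_prod, hcard, Fintype.card_fin, hN]
  obtain ⟨ρ', hinj'⟩ := transportRep
    ((LinearEquiv.funCongrLeft F F (Fintype.equivOfCardEq hc)).symm.trans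
      (LinearEquiv.curry F F l (Fin b))) ρ hinj
  refine ⟨T, inferInstance, inferInstance,
    (Units.map (MonoidHomClass.toMonoidHom (LinearMap.toMatrixAlgEquiv' (R := F)
      (n := Fin N)))).comp ρ'.toHomUnits, hT, hdvd, hnea, ?_⟩
  intro x y hxy
  apply hinj'
  have h1 := congrArg Units.val hxy
  have h2 : LinearMap.toMatrixAlgEquiv' (R := F) (n := Fin N) (ρ' x) =
      LinearMap.toMatrixAlgEquiv' (R := F) (n := Fin N) (ρ' y) := h1
  exact (LinearMap.toMatrixAlgEquiv' (R := F) (n := Fin N)).injective h2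

/-- Piece GLMOD of S2249. -/
theorem exists_gl_model {F : Type u} [Field F] (b c : ℕ) (hb : 1 ≤ b)
    (hbase : ∃ (T : Type u) (_ : Group T) (_ : Finite T) (ρ : Representation F T (Fin b → F)),
      IsPGroup 2 T ∧ 2 ^ c ∣ Nat.card T ∧ Nontrivial T ∧ Function.Injective ρ)
    (m : ℕ) (hm : 1 ≤ m) (N : ℕ) (hN : N = m * b) :
    ∃ (T : Type u) (_ : Group T) (_ : Finite T) (φ : T →* GL (Fin N) F),
      IsPGroup 2 T ∧ 2 ^ (m * c + padicValNat 2 m.factorial) ∣ Nat.card T ∧ NEA T m ∧
      Function.Injective φ :=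
  (hasBlk_all hb (hasBlk_one b c hbase) m hm).exists_hom N hN

end Cfsg.Agent.Lib.Helper75.NRank
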