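import Mathlib
import Cfsg.Prelude.Def_Local
import Cfsg.Agent.Lib.Helper1.Hall

set_option autoImplicit false
open Cfsg

/-! A finite solvable group is `p`-solvable in the sense of `Cfsg.IsPSolvable` (helper75). -/

namespace Cfsg.Agent.Lib.Helper75.PSS

universe u

/-- a chain of normal subgroups with `p`- or `p'`-factors in a finite solvable group -/
theorem exists_chain (p : ℕ) (hp : p.Prime) :
    ∀ N : ℕ, ∀ (G : Type u) [Group G] [Finite G] [Group.IsSolvable G], Nat.card G = N →
      ∃ (n : ℕ) (K : ℕ → Subgroup G), K 0 = ⊥ ∧ K n = ⊤ ∧ (∀ i, K i ≤ K (i + 1)) ∧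
        (∀ i, (K i).Normal) ∧ ∀ i < n, (∃ m : ℕ, (K i).relIndex (K (i + 1)) = p ^ m) ∨
          ((K i).relIndex (K (i + 1))).Coprime p := by
  intro N
  induction N using Nat.strong_induction_on with
  | _ N ih =>
  intro G _ _ _ hN
  by_cases htriv : Nat.card G = 1
  · refine ⟨0, fun _ => ⊥, rfl, ?_, fun _ => le_rfl, fun _ => inferInstance,
      fun i hi => absurd hi (Nat.not_lt_zero i)⟩
    have hss : Subsingleton G := (Nat.card_eq_one_iff_unique.mp htriv).1
    exact Subsingleton.elim _ _
  have hnt : Nontrivial G := Finite.one_lt_card_iff_nontrivial.mp (by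
    have := Nat.card_pos (α := G); omega)
  obtain ⟨q, P, hq, hPn, hPp, hP1⟩ := Helper1.exists_normal_pgroup (G := G)
  have hlt : Nat.card (G ⧸ P) < N := hN ▸ Helper1.card_quotient_lt hP1
  obtain ⟨n, K, hK0, hKn, hKmono, hKnorm, hKfac⟩ := ih _ hlt (G ⧸ P) rfl
  have hπ : Function.Surjective (QuotientGroup.mk' P) := QuotientGroup.mk'_surjective P
  refine ⟨n + 1, fun i => Nat.casesOn i ⊥ (fun j => (K j).comap (QuotientGroup.mk' P)), rfl,
    ?_, ?_, ?_, ?_⟩
  · show (K n).comap (QuotientGroup.mk' P) = ⊤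
    rw [hKn, Subgroup.comap_top]
  · intro i
    cases i with
    | zero => exact bot_le
    | succ j => exact Subgroup.comap_mono (hKmono j)
  · intro i
    cases i with
    | zero => exact (inferInstance : (⊥ : Subgroup G).Normal)
    | succ j => exact (hKnorm j).comap (QuotientGroup.mk' P)
  · intro i hi
    cases i with
    | zero =>
      show (∃ m : ℕ, (⊥ : Subgroup G).relIndex ((K 0).comap (QuotientGroup.mk' P)) = p ^ m) ∨
        ((⊥ : Subgroup G).relIndex ((K 0).comap (QuotientGroup.mk' P))).Coprime p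
      have h1 : (K 0).comap (QuotientGroup.mk' P) = P := by
        rw [hK0, MonoidHom.comap_bot, QuotientGroup.ker_mk']
      rw [h1, Subgroup.relIndex_bot_left]
      have : Fact q.Prime := ⟨hq⟩
      obtain ⟨a, ha⟩ := IsPGroup.iff_card.mp hPp
      by_cases hqp : q = p
      · left
        exact ⟨a, by rw [ha, hqp]⟩
      · right
        rw [ha]
        exact Nat.Coprime.pow_left a ((Nat.coprime_primes hq hp).mpr hqp)
    | succ j =>
      have hj : j < n := Nat.lt_of_succ_lt_succ hi
      show (∃ m : ℕ, ((K j).comap (QuotientGroup.mk' P)).relIndex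
          ((K (j + 1)).comap (QuotientGroup.mk' P)) = p ^ m) ∨
        (((K j).comap (QuotientGroup.mk' P)).relIndex
          ((K (j + 1)).comap (QuotientGroup.mk' P))).Coprime p
      rw [Subgroup.relIndex_comap, Subgroup.map_comap_eq_self_of_surjective hπ]
      exact hKfac j hj

/-- a finite solvable group is `p`-solvable -/
theorem isPSolvable_of_isSolvable (p : ℕ) (hp : p.Prime) (G : Type u) [Group G] [Finite G]
    [Group.IsSolvable G] : IsPSolvable p G := by
  obtain ⟨n, K, hK0, hKn, hKmono, hKnorm, hKfac⟩ := exists_chain p hp _ G rfl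
  refine ⟨n, fun i => K i.val, hK0, hKn, ?_, fun i => hKnorm _, fun i => ?_⟩
  · intro i j hij
    exact monotone_nat_of_le_succ hKmono hij
  · exact hKfac i.val i.isLt

end Cfsg.Agent.Lib.Helper75.PSS
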