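import Mathlib
import Cfsg.Agent.Lib.Helper72.SCDefs
import Cfsg.Agent.Lib.Helper31.Basic
import Cfsg.Agent.S0612
import Cfsg.Agent.S0616

/-!
# SC-FFD (piece of S4394, poster helper72): the external failure-of-factorization lemma
from the pieces FFA, FFB, FFO, FFE and the landed FF structure theorem (S0612, S0616).
-/

set_option autoImplicit false

namespace Cfsg.Agent.Lib.Helper75.SC

open Cfsg.Agent.Lib.Helper72.SC
open scoped commutatorElement

universe u

/-- the image of `O_{p'}(H)` is stable under conjugation by the normalizer of `H` -/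
theorem ppc_conj_mem {G : Type*} [Group G] {p : ℕ} (H : Subgroup G) {g : G}
    (hg : g ∈ Subgroup.normalizer (H : Set G)) :
    ∀ y ∈ (Cfsg.pPrimeCore p ↥H).map H.subtype,
      g * y * g⁻¹ ∈ (Cfsg.pPrimeCore p ↥H).map H.subtype := by
  rintro _ ⟨x, hx, rfl⟩
  set e : ↥H ≃* ↥H := H.normalizerMonoidHom ⟨g, hg⟩ with he
  have hcoe : ∀ h : ↥H, ((e h : ↥H) : G) = g * h * g⁻¹ := fun h => rfl
  have h1 := Cfsg.Agent.Lib.Helper31.pPrimeCore_map p e
  have h2 : e x ∈ Cfsg.pPrimeCore p ↥H := by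
    rw [← h1]; exact ⟨x, hx, rfl⟩
  exact ⟨e x, h2, hcoe x⟩

theorem inl_conj {V : Type*} [Group V] (a : MulAut V) (v : V) :
    (SemidirectProduct.inl (a v) : Gam V) =
      SemidirectProduct.inr a * SemidirectProduct.inl v * (SemidirectProduct.inr a)⁻¹ := by
  have h := SemidirectProduct.inl_aut (φ := MonoidHom.id (MulAut V)) a v
  rw [map_inv] at h
  exact h

theorem Vs_normal (V : Type*) [Group V] : (Vs V).Normal := by
  unfold Vs
  rw [SemidirectProduct.range_inl_eq_ker_rightHom]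
  infer_instance

theorem ffd (h1 : FfaStmt.{u}) (h2 : FfbStmt.{u}) (h3 : FfoStmt.{u}) (h4 : FfeStmt.{u}) :
    FfxStmt.{u} := by
  intro V _ _ p _ Gb A hab hexp hsolv hcore hAGb hAab hAexp hA1 hcard
  obtain ⟨hV, hHup, hupN, hHV, hf, hS3⟩ := h1 V p Gb hab hexp
  have hS1 := h2 V p Gb hab hexp hsolv hcore
  obtain ⟨B, hBA, hBbo, hBV⟩ := h3 V p A hab hexp hAab hAexp hA1 hcard
  have hVn : (Vs V).Normal := Vs_normal V
  have hfinA : Finite (MulAut V) :=
    Finite.of_injective (fun (e : MulAut V) => (e : V → V)) DFunLike.coe_injective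
  have hfinG : Finite (Gam V) :=
    Finite.of_equiv (V × MulAut V) SemidirectProduct.equivProd.symm
  have hupBA : up B ≤ up A := Subgroup.map_mono hBA
  have hupAGb : up A ≤ up Gb := Subgroup.map_mono hAGb
  have hBH : up B ≤ Hs p Gb :=
    le_iSup (fun A : {A : Subgroup (Gam V) // A ≤ up Gb ∧ Cfsg.IsBestOffenderOn p (Vs V) A} =>
      (A : Subgroup (Gam V))) ⟨up B, hupBA.trans hupAGb, hBbo⟩
  have hupB1 : up B ≠ ⊥ := by
    intro h
    apply hBV
    rw [h]
    exact Subgroup.commutator_bot_right _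
  have hH1 : Hs p Gb ≠ ⊥ := fun h => hupB1 (le_bot_iff.mp (h ▸ hBH))
  obtain ⟨k, B', hB', -, hsup⟩ := Cfsg.Agent.S0612.result (Vs V) (Hs p Gb) hV hHV hf hS1 hS3 hH1
    (up B) hBH hBbo hupB1
  have hk : k ≠ 0 := by
    rintro rfl
    apply hupB1
    rw [← hsup]
    simp
  obtain ⟨k, rfl⟩ := Nat.exists_eq_succ_of_ne_zero hk
  obtain ⟨hB0le, hB0bo, hB0V, hB0min⟩ := hB' 0
  obtain ⟨B0, hB0⟩ : ∃ B0, B0 = B' 0 := ⟨_, rfl⟩
  rw [← hB0] at hB0le hB0bo hB0V hB0min
  have hB0H : B0 ≤ Hs p Gb := hB0le.trans hBH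
  obtain ⟨hp23, -, hWcard, hWU, hWsup, -⟩ := Cfsg.Agent.S0616.result (Vs V) (Hs p Gb) hV hHV hf
    hS1 hS3 hH1 B0 hB0H hB0bo hB0V hB0min
  obtain ⟨K, hK⟩ : ∃ K, K = (Cfsg.pPrimeCore p ↥(Hs p Gb)).map (Hs p Gb).subtype := ⟨_, rfl⟩
  rw [← hK] at hWcard hWU hWsup
  obtain ⟨E, hE⟩ : ∃ E, E = ⁅K, B0⁆ ⊔ B0 := ⟨_, rfl⟩
  rw [← hE] at hWcard hWU hWsup
  -- basic facts on elements `inr a`, `a ∈ A`
  have hinrA : ∀ a ∈ A, (SemidirectProduct.inr a : Gam V) ∈ up A := fun a ha => ⟨a, ha, rfl⟩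
  have hfixB0 : ∀ a ∈ A, ∀ y ∈ B0, (SemidirectProduct.inr a : Gam V) * y *
      (SemidirectProduct.inr a : Gam V)⁻¹ = y := by
    intro a ha y hy
    obtain ⟨b, hb, rfl⟩ := hupBA (hB0le hy)
    rw [← map_mul, hAab a ha b hb, map_mul, mul_inv_cancel_right]
  have hKinv : ∀ a ∈ A, ∀ y ∈ K, (SemidirectProduct.inr a : Gam V) * y *
      (SemidirectProduct.inr a : Gam V)⁻¹ ∈ K := by
    intro a ha y hy
    rw [hK] at hy ⊢
    exact ppc_conj_mem (Hs p Gb) (hupN (hupAGb (hinrA a ha))) y hy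
  have hEinv : ∀ a ∈ A, E.map (MulAut.conj (SemidirectProduct.inr a : Gam V)).toMonoidHom ≤ E := by
    intro a ha
    rw [hE, Subgroup.map_sup, Subgroup.map_commutator]
    have hKm : K.map (MulAut.conj (SemidirectProduct.inr a : Gam V)).toMonoidHom ≤ K := by
      rintro _ ⟨y, hy, rfl⟩
      exact hKinv a ha y hy
    have hBm : B0.map (MulAut.conj (SemidirectProduct.inr a : Gam V)).toMonoidHom ≤ B0 := by
      rintro _ ⟨y, hy, rfl⟩
      have := hfixB0 a ha y hy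
      show (SemidirectProduct.inr a : Gam V) * y * (SemidirectProduct.inr a : Gam V)⁻¹ ∈ B0
      rw [this]
      exact hy
    exact sup_le_sup (Subgroup.commutator_mono hKm hBm) hBm
  have hEinv' : ∀ a ∈ A, ∀ e ∈ E, (SemidirectProduct.inr a : Gam V) * e *
      (SemidirectProduct.inr a : Gam V)⁻¹ ∈ E := by
    intro a ha e he
    exact hEinv a ha ⟨e, he, rfl⟩
  have hVE : ⁅Vs V, E⁆ ≤ Vs V := Subgroup.commutator_le_left _ _
  have hinj : Function.Injective (SemidirectProduct.inl : V →* Gam V) :=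
    SemidirectProduct.inl_injective
  -- the subgroups `W`, `U`
  obtain ⟨W, hW⟩ : ∃ W, W = (⁅Vs V, E⁆).comap (SemidirectProduct.inl : V →* Gam V) := ⟨_, rfl⟩
  obtain ⟨U, hU⟩ : ∃ U, U = (Vs V ⊓ Subgroup.centralizer (E : Set (Gam V))).comap
      (SemidirectProduct.inl : V →* Gam V) := ⟨_, rfl⟩
  have hWmap : W.map (SemidirectProduct.inl : V →* Gam V) = ⁅Vs V, E⁆ := by
    rw [hW]
    exact Subgroup.map_comap_eq_self hVE
  have hUmap : U.map (SemidirectProduct.inl : V →* Gam V) =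
      Vs V ⊓ Subgroup.centralizer (E : Set (Gam V)) := by
    rw [hU]
    exact Subgroup.map_comap_eq_self inf_le_left
  have hmemW : ∀ w : V, w ∈ W ↔ (SemidirectProduct.inl w : Gam V) ∈ ⁅Vs V, E⁆ := by
    intro w
    rw [hW]
    exact Subgroup.mem_comap
  have hmemU : ∀ w : V, w ∈ U ↔ (SemidirectProduct.inl w : Gam V) ∈
      Vs V ⊓ Subgroup.centralizer (E : Set (Gam V)) := by
    intro w
    rw [hU]
    exact Subgroup.mem_comap
  -- the element `x`
  have hB01 : B0 ≠ ⊥ := by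
    intro h
    apply hB0V
    rw [h]
    exact Subgroup.commutator_bot_right _
  obtain ⟨y, hyB0, hy1⟩ := (Subgroup.ne_bot_iff_exists_ne_one.mp hB01 : ∃ y : ↥B0, y ≠ 1) |>
    fun ⟨y, hy⟩ => (⟨(y : Gam V), y.2, fun h => hy (Subtype.ext h)⟩ :
      ∃ y : Gam V, y ∈ B0 ∧ y ≠ 1)
  obtain ⟨x, hxB, rfl⟩ := hB0le hyB0
  have hx1 : x ≠ 1 := by
    rintro rfl
    exact hy1 (map_one _)
  have hxA : x ∈ A := hBA hxB
  have hxE : (SemidirectProduct.inr x : Gam V) ∈ E := by
    rw [hE]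
    exact Subgroup.mem_sup_right hyB0
  -- cardinality and lattice facts
  have hWc : Nat.card ↥W = p ^ 2 := by
    rw [← hWcard, ← hWmap, Subgroup.card_map_of_injective hinj]
  have hWUbot : W ⊓ U = ⊥ := by
    rw [hW, hU, ← Subgroup.comap_inf, hWU, MonoidHom.comap_bot]
    exact (MonoidHom.ker_eq_bot_iff _).mpr hinj
  have hWUtop : W ⊔ U = ⊤ := by
    rw [eq_top_iff]
    intro v _
    have hv : (SemidirectProduct.inl v : Gam V) ∈ Vs V := ⟨v, rfl⟩
    rw [← hWsup, ← hWmap, ← hUmap, ← Subgroup.map_sup] at hv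
    exact (Subgroup.mem_map_iff_mem hinj).mp hv
  have hWinv : ∀ a ∈ A, ∀ w ∈ W, a w ∈ W := by
    intro a ha w hw
    rw [hmemW] at hw ⊢
    rw [inl_conj]
    have hmap : (⁅Vs V, E⁆).map (MulAut.conj (SemidirectProduct.inr a : Gam V)).toMonoidHom ≤
        ⁅Vs V, E⁆ := by
      rw [Subgroup.map_commutator]
      refine Subgroup.commutator_mono ?_ (hEinv a ha)
      rintro _ ⟨z, hz, rfl⟩
      exact hVn.conj_mem z hz _
    exact hmap ⟨_, hw, rfl⟩
  have hUinv : ∀ a ∈ A, ∀ u ∈ U, a u ∈ U := by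
    intro a ha u hu
    rw [hmemU] at hu ⊢
    refine ⟨⟨_, rfl⟩, Subgroup.mem_centralizer_iff.mpr ?_⟩
    intro e he
    have he' : (SemidirectProduct.inr a : Gam V)⁻¹ * e * (SemidirectProduct.inr a : Gam V) ∈ E := by
      have := hEinv' a⁻¹ (inv_mem ha) e he
      rwa [map_inv, inv_inv] at this
    have hc := (Subgroup.mem_centralizer_iff.mp hu.2) _ he'
    rw [inl_conj]
    calc e * ((SemidirectProduct.inr a : Gam V) * SemidirectProduct.inl u *
          (SemidirectProduct.inr a : Gam V)⁻¹)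
        = (SemidirectProduct.inr a : Gam V) * (((SemidirectProduct.inr a : Gam V)⁻¹ * e *
          (SemidirectProduct.inr a : Gam V)) * SemidirectProduct.inl u) *
          (SemidirectProduct.inr a : Gam V)⁻¹ := by group
      _ = (SemidirectProduct.inr a : Gam V) * (SemidirectProduct.inl u *
          ((SemidirectProduct.inr a : Gam V)⁻¹ * e * (SemidirectProduct.inr a : Gam V))) *
          (SemidirectProduct.inr a : Gam V)⁻¹ := by rw [hc]
      _ = _ := by group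
  have hxU : ∀ u ∈ U, x u = u := by
    intro u hu
    rw [hmemU] at hu
    have hc := (Subgroup.mem_centralizer_iff.mp hu.2) _ hxE
    apply hinj
    rw [inl_conj, hc, mul_inv_cancel_right]
  have hmoves : ∃ w ∈ W, x w ≠ w := by
    by_contra hno
    push Not at hno
    apply hx1
    ext v
    have hv : v ∈ W ⊔ U := by rw [hWUtop]; trivial
    have hUn : U.Normal := ⟨fun n hn g => by rw [hab g n, mul_inv_cancel_right]; exact hn⟩
    have hv' : v ∈ ((W ⊔ U : Subgroup V) : Set V) := hv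
    rw [Subgroup.mul_normal W U] at hv'
    obtain ⟨w, hw, u, hu, rfl⟩ := Set.mem_mul.mp hv'
    rw [map_mul, hno w hw, hxU u hu]
    rfl
  exact ⟨hp23, W, U, x, hxA, hWc, hWUbot, hWUtop, hWinv, hUinv, hmoves,
    h4 V p A W x hab hexp hAexp hxA hWc hWinv hmoves⟩

end Cfsg.Agent.Lib.Helper75.SC
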