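import Mathlib
import Cfsg.Agent.Lib.Helper52.SP8EBDefs

/-! SP8-EB (sub-project of S5823, helper52): piece `ABS2b`. A set of matrices whose span contains
every transported one-factor matrix `tw e P (iota i A)` acts irreducibly. -/

set_option autoImplicit false

namespace Cfsg.Agent.Lib.Helper52.SP8EB

open Matrix Cfsg.Geo Cfsg.Agent.Lib.Helper71.Asch

variable {n : ℕ} {F : Type*} [Field F] [Fintype F]

/-- ABS2b. -/
theorem ABS2b (e : Fin n ≃ (Fin 3 → Fin 2)) (P : GL (Fin n) F) (S : Set (Matrix (Fin n) (Fin n) F))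
    (hS : HSpanIota e P S) : ActsIrreducibly S := by
  classical
  intro W hW
  have hinvS : ∀ s ∈ S, ∀ w ∈ W, s *ᵥ w ∈ W := by
    intro s hs w hw
    apply hW s hs
    exact ⟨w, hw, by rw [Matrix.toLin'_apply]⟩
  -- the submodule of matrices preserving `W`
  obtain ⟨𝒜, h𝒜⟩ : ∃ 𝒜 : Submodule F (Matrix (Fin n) (Fin n) F),
      ∀ X, X ∈ 𝒜 ↔ ∀ w ∈ W, X *ᵥ w ∈ W :=
    ⟨{ carrier := {X | ∀ w ∈ W, X *ᵥ w ∈ W}
       add_mem' := by
         intro X Y hX hY w hw
         rw [Matrix.add_mulVec]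
         exact W.add_mem (hX w hw) (hY w hw)
       zero_mem' := by
         intro w _
         rw [Matrix.zero_mulVec]
         exact W.zero_mem
       smul_mem' := by
         intro c X hX w hw
         rw [Matrix.smul_mulVec]
         exact W.smul_mem c (hX w hw) }, fun X => Iff.rfl⟩
  have hspan : Submodule.span F S ≤ 𝒜 :=
    Submodule.span_le.mpr (fun s hs => (h𝒜 s).mpr (hinvS s hs))
  have hmulA : ∀ X Y, X ∈ 𝒜 → Y ∈ 𝒜 → X * Y ∈ 𝒜 := by
    intro X Y hX hY
    rw [h𝒜] at hX hY ⊢
    intro w hw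
    rw [← Matrix.mulVec_mulVec]
    exact hX _ (hY w hw)
  have hiota : ∀ (i : Fin 3) (A : Matrix (Fin 2) (Fin 2) F), tw e P (iota i A) ∈ 𝒜 :=
    fun i A => hspan (hS i A)
  -- pure tensors
  have hpt : ∀ cs : Fin 3 → Matrix (Fin 2) (Fin 2) F, tw e P (pt cs) ∈ 𝒜 := by
    intro cs
    have h1 : pt cs = iota 0 (cs 0) * iota 1 (cs 1) * iota 2 (cs 2) := by
      rw [iota_eq_pt, iota_eq_pt, iota_eq_pt, pt_mul, pt_mul]
      congr 1
      funext i
      fin_cases i <;> simp
    rw [h1, ← tw_mul, ← tw_mul]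
    exact hmulA _ _ (hmulA _ _ (hiota 0 _) (hiota 1 _)) (hiota 2 _)
  -- matrix units
  have hsingle : ∀ a b : Fin 3 → Fin 2, tw e P (Matrix.single a b (1 : F)) ∈ 𝒜 := by
    intro a b
    have h1 : Matrix.single a b (1 : F) = pt (fun i => Matrix.single (a i) (b i) (1 : F)) := by
      ext x y
      rw [pt_apply]
      by_cases h : a = x ∧ b = y
      · obtain ⟨rfl, rfl⟩ := h
        rw [Matrix.single_apply_same]
        symm
        apply Finset.prod_eq_one
        intro i _
        rw [Matrix.single_apply_same]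
      · rw [Matrix.single_apply_of_ne _ _ _ _ _ h]
        symm
        have hex : ∃ i, ¬ (a i = x i ∧ b i = y i) := by
          by_contra hcon
          push Not at hcon
          exact h ⟨funext fun i => (hcon i).1, funext fun i => (hcon i).2⟩
        obtain ⟨i, hi⟩ := hex
        apply Finset.prod_eq_zero (Finset.mem_univ i)
        rw [Matrix.single_apply_of_ne _ _ _ _ _ hi]
    rw [h1]
    exact hpt _
  -- all matrices
  have hall : ∀ X : Matrix (Fin n) (Fin n) F, X ∈ 𝒜 := by
    intro X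
    rw [← tw_twinv e P X]
    obtain ⟨Y, hY⟩ : ∃ Y, Y = twinv e P X := ⟨_, rfl⟩
    rw [← hY, Matrix.matrix_eq_sum_single Y, tw_sum]
    apply Submodule.sum_mem
    intro a _
    rw [tw_sum]
    apply Submodule.sum_mem
    intro b _
    have h2 : Matrix.single a b (Y a b) = Y a b • Matrix.single a b (1 : F) := by
      rw [Matrix.smul_single, smul_eq_mul, mul_one]
    rw [h2, tw_smul]
    exact 𝒜.smul_mem _ (hsingle a b)
  -- conclusion
  by_cases hbot : W = ⊥
  · left
    exact hbot
  · right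
    obtain ⟨v, hvW, hv0⟩ := (Submodule.ne_bot_iff W).mp hbot
    obtain ⟨j, hj⟩ : ∃ j, v j ≠ 0 := by
      by_contra hcon
      push Not at hcon
      exact hv0 (funext hcon)
    rw [eq_top_iff]
    intro w _
    have h3 := (h𝒜 _).mp (hall (Matrix.vecMulVec w (Pi.single j (v j)⁻¹))) v hvW
    have h4 : Matrix.vecMulVec w (Pi.single j (v j)⁻¹) *ᵥ v = w := by
      ext i
      simp only [Matrix.mulVec, dotProduct, Matrix.vecMulVec_apply]
      rw [Finset.sum_eq_single j]
      · rw [Pi.single_eq_same, mul_assoc, inv_mul_cancel₀ hj, mul_one]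
      · intro k _ hk
        rw [Pi.single_eq_of_ne hk, mul_zero, zero_mul]
      · intro h
        exact absurd (Finset.mem_univ j) h
    rwa [h4] at h3

end Cfsg.Agent.Lib.Helper52.SP8EB
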