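import Cfsg.Agent.Lib.Helper4.TPDefs

/-!
Project TP (S4033, helper4), piece SOLVA: a nontrivial solvable normal subgroup `N` of a finite
group `Q` contains a nontrivial normal (in `Q`) `r`-subgroup for some prime `r`.
-/

set_option autoImplicit false

namespace Cfsg.Agent.Lib.Helper4.TP

universe u

open scoped commutatorElement

theorem solva : SolvAStmt.{u} := by
  intro Q _ _ N hNn hN1 hsolv
  classical
  have hsol : ∃ n, derivedSeries ↥N n = ⊥ := hsolv.solvable
  have hn := Nat.find_spec hsol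
  have hmin := fun m (hm : m < Nat.find hsol) => Nat.find_min hsol hm
  obtain ⟨n, hndef⟩ : ∃ n, n = Nat.find hsol := ⟨_, rfl⟩
  rw [← hndef] at hn hmin
  have hn0 : n ≠ 0 := by
    rintro rfl
    rw [derivedSeries_zero] at hn
    apply hN1
    rw [eq_bot_iff]
    intro y hy
    have h1 : (⟨y, hy⟩ : ↥N) ∈ (⊤ : Subgroup ↥N) := Subgroup.mem_top _
    rw [hn, Subgroup.mem_bot] at h1
    rw [Subgroup.mem_bot]
    exact congrArg Subtype.val h1
  obtain ⟨k, rfl⟩ := Nat.exists_eq_succ_of_ne_zero hn0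
  have hA : derivedSeries ↥N k ≠ ⊥ := hmin k (Nat.lt_succ_self k)
  have hcomm0 : ∀ x ∈ derivedSeries ↥N k, ∀ y ∈ derivedSeries ↥N k, x * y = y * x := by
    intro x hx y hy
    have h1 : ⁅x, y⁆ ∈ derivedSeries ↥N (k + 1) := by
      rw [derivedSeries_succ]
      exact Subgroup.commutator_mem_commutator hx hy
    rw [hn, Subgroup.mem_bot] at h1
    exact (commutatorElement_eq_one_iff_commute.mp h1).eq
  have hchar : (derivedSeries ↥N k).Characteristic := derivedSeries_characteristic ↥N k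
  obtain ⟨A', hA'⟩ : ∃ A' : Subgroup Q, A' = (derivedSeries ↥N k).map N.subtype := ⟨_, rfl⟩
  have hA'n : A'.Normal := by
    rw [hA']
    exact ConjAct.normal_of_characteristic_of_normal
  have hA'N : A' ≤ N := by
    rw [hA']
    exact Subgroup.map_subtype_le _
  have hA'ne : A' ≠ ⊥ := by
    rw [hA']
    exact (Subgroup.map_eq_bot_iff_of_injective _ (Subgroup.subtype_injective N)).not.mpr hA
  have hA'comm : ∀ a ∈ A', ∀ b ∈ A', a * b = b * a := by
    intro a ha b hb
    rw [hA'] at ha hb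
    obtain ⟨x, hx, rfl⟩ := ha
    obtain ⟨y, hy, rfl⟩ := hb
    have h1 := hcomm0 x hx y hy
    exact congrArg Subtype.val h1
  have hcard1 : Nat.card A' ≠ 1 := fun h => hA'ne (Subgroup.card_eq_one.mp h)
  obtain ⟨r, hr, hrdvd⟩ := Nat.exists_prime_and_dvd hcard1
  have : Fact r.Prime := ⟨hr⟩
  let R : Subgroup Q :=
    { carrier := {a | a ∈ A' ∧ a ^ r = 1}
      one_mem' := ⟨A'.one_mem, one_pow r⟩
      mul_mem' := by
        rintro a b ⟨ha, ha1⟩ ⟨hb, hb1⟩
        refine ⟨A'.mul_mem ha hb, ?_⟩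
        have hc : Commute a b := hA'comm a ha b hb
        rw [hc.mul_pow, ha1, hb1, one_mul]
      inv_mem' := by
        rintro a ⟨ha, ha1⟩
        refine ⟨A'.inv_mem ha, ?_⟩
        rw [inv_pow, ha1, inv_one] }
  have hRmem : ∀ a : Q, a ∈ R ↔ a ∈ A' ∧ a ^ r = 1 := fun a => Iff.rfl
  refine ⟨r, R, hr, ?_, ?_, ?_, ?_⟩
  · refine ⟨fun a ha g => ?_⟩
    rw [hRmem] at ha ⊢
    refine ⟨hA'n.conj_mem a ha.1 g, ?_⟩
    rw [conj_pow, ha.2, mul_one, mul_inv_cancel]
  · obtain ⟨x, hx⟩ := exists_prime_orderOf_dvd_card' (G := ↥A') r hrdvd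
    intro hbot
    have h1 : (x : Q) ∈ R := by
      rw [hRmem]
      refine ⟨x.2, ?_⟩
      have h2 := pow_orderOf_eq_one x
      rw [hx] at h2
      exact congrArg Subtype.val h2
    rw [hbot, Subgroup.mem_bot] at h1
    have h3 : x = 1 := Subtype.ext h1
    rw [h3, orderOf_one] at hx
    exact hr.one_lt.ne hx
  · intro g
    refine ⟨1, ?_⟩
    apply Subtype.ext
    rw [pow_one, Subgroup.coe_pow]
    exact ((hRmem g.1).mp g.2).2
  · intro a ha
    exact hA'N ((hRmem a).mp ha).1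

end Cfsg.Agent.Lib.Helper4.TP
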