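import Mathlib
import Cfsg.Prelude.Def_Classical
import Cfsg.Agent.Lib.Helper18.UEDefs

set_option autoImplicit false

namespace Cfsg.Agent.Lib.Helper18.UE

open Matrix

universe u

variable {F : Type u} [Field F] {m : ℕ}

private theorem uelevel_natCard_setOf {α : Type*} [Fintype α] (P : α → Prop)
    [DecidablePred P] :
    Nat.card {a : α | P a} = (Finset.univ.filter P).card := by
  rw [Nat.card_coe_set_eq, Set.ncard_eq_toFinset_card', Set.toFinset_ofPred]

-- piece LEVEL
theorem card_level [Fintype F] {q : ℕ} (hF : Fintype.card F = q ^ 2) (σ : F →+* F)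
    (hσ : ∀ x, σ x = x ^ q) (K : Matrix (Fin m) (Fin m) F) (hK : IsHerm σ K)
    (u₀ : Fin m → F) (hα : hq σ K u₀ ≠ 0)
    (hnorm : ∀ c : F, Nat.card {a : F | a * a ^ q = c} ≤ q + 1) :
    Nat.card {u : Fin m → F | hq σ K u = hq σ K u₀} ≤
      (q + 1) * Nat.card {w : Fin m → F | hB σ K w u₀ = 0} := by
  classical
  have hσσ : ∀ x, σ (σ x) = x := by
    intro x
    rw [hσ, hσ, ← pow_mul, ← pow_two, ← hF]
    exact FiniteField.pow_card x
  obtain ⟨α, hαdef⟩ : ∃ α, α = hq σ K u₀ := ⟨_, rfl⟩
  rw [← hαdef] at hα ⊢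
  have hσα : σ α = α := by
    rw [hαdef]
    exact hB_conj σ hσσ hK u₀ u₀
  -- the coefficient and the projection
  let a : (Fin m → F) → F := fun u => σ (hB σ K u u₀) / α
  let f : (Fin m → F) → (Fin m → F) := fun u => u - a u • u₀
  have hσa : ∀ u, σ (a u) = hB σ K u u₀ / α := by
    intro u
    show σ (σ (hB σ K u u₀) / α) = _
    rw [map_div₀, hσσ, hσα]
  have hf0 : ∀ u, hB σ K (f u) u₀ = 0 := by
    intro u
    show hB σ K (u - a u • u₀) u₀ = 0
    have h1 : u - a u • u₀ = u + (-(a u)) • u₀ := by
      rw [neg_smul, sub_eq_add_neg]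
    rw [h1, hB_add_left, hB_smul_left, map_neg, hσa]
    have : hB σ K u₀ u₀ = α := hαdef.symm
    rw [this]
    field_simp
    ring
  have hu : ∀ u, u = f u + a u • u₀ := by
    intro u
    show u = u - a u • u₀ + a u • u₀
    rw [sub_add_cancel]
  -- value of hq on w + c • u₀ for w ⟂ u₀
  have hval : ∀ (w : Fin m → F) (c : F), hB σ K w u₀ = 0 →
      hq σ K (w + c • u₀) = hq σ K w + c * c ^ q * α := by
    intro w c hw
    have hw' : hB σ K u₀ w = 0 := by
      rw [← hB_conj σ hσσ hK w u₀, hw, map_zero]
    rw [hq_add, hq_smul, hB_smul_right, hB_smul_left, hw, hw', hσ c, ← hαdef]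
    ring
  rw [uelevel_natCard_setOf, uelevel_natCard_setOf]
  set s := Finset.univ.filter (fun u : Fin m → F => hq σ K u = α) with hs
  set W := Finset.univ.filter (fun w : Fin m → F => hB σ K w u₀ = 0) with hW
  have h1 : s.card ≤ (q + 1) * (s.image f).card := by
    apply Finset.card_le_mul_card_image
    intro w _
    have hsub : (s.filter (fun u => f u = w)).card ≤
        (Finset.univ.filter (fun c : F => c * c ^ q = (α - hq σ K w) / α)).card := by
      apply Finset.card_le_card_of_injOn a
      · intro u hu'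
        have hu'' := Finset.mem_filter.mp (Finset.mem_coe.mp hu')
        have hus : hq σ K u = α := (Finset.mem_filter.mp hu''.1).2
        have hfu : f u = w := hu''.2
        have hw0 : hB σ K w u₀ = 0 := by rw [← hfu]; exact hf0 u
        have h2 := hval w (a u) hw0
        have h3 : w + a u • u₀ = u := by rw [← hfu]; exact (hu u).symm
        rw [h3, hus] at h2
        apply Finset.mem_coe.mpr
        apply Finset.mem_filter.mpr
        refine ⟨Finset.mem_univ _, ?_⟩
        rw [eq_div_iff hα]
        linear_combination -h2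
      · intro u hu' u' hu'' hau
        have h1 := (Finset.mem_filter.mp (Finset.mem_coe.mp hu')).2
        have h2 := (Finset.mem_filter.mp (Finset.mem_coe.mp hu'')).2
        rw [hu u, hu u', h1, h2, hau]
    have h4 := hnorm ((α - hq σ K w) / α)
    rw [uelevel_natCard_setOf] at h4
    exact le_trans hsub h4
  have h2 : (s.image f).card ≤ W.card := by
    apply Finset.card_le_card
    intro w hw
    obtain ⟨u, _, rfl⟩ := Finset.mem_image.mp hw
    exact Finset.mem_filter.mpr ⟨Finset.mem_univ _, hf0 u⟩
  calc s.card ≤ (q + 1) * (s.image f).card := h1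
    _ ≤ (q + 1) * W.card := Nat.mul_le_mul_left _ h2

end Cfsg.Agent.Lib.Helper18.UE
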